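import Mathlib.LinearAlgebra.Dual.Lemmas
import Mathlib.LinearAlgebra.Matrix.ToLin
import Mathlib.LinearAlgebra.Matrix.NonsingularInverse
import Mathlib.LinearAlgebra.Matrix.ToLinearEquiv
import Mathlib.Data.Finset.Sort

/-! Schubert conditions through Plücker minors. -/

set_option autoImplicit false

namespace Groth.Agent.SchubLib

universe u

variable {K : Type u} [Field K] {n d : ℕ} {V : ℕ → Submodule K (Fin n → K)}

theorem det_ne_zero_iff (A : Matrix (Fin d) (Fin n) K) (hA : LinearIndependent K fun i : Fin d => A i)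
    (J : Fin d → Fin n) : (A.submatrix id J).det ≠ 0 ↔
      ∀ x ∈ Submodule.span K (Set.range fun i : Fin d => A i), (∀ j, x (J j) = 0) → x = 0 := by
  constructor
  · intro h x hx h0
    obtain ⟨c, rfl⟩ := (Submodule.mem_span_range_iff_exists_fun K).1 hx
    have hc : c = 0 := by
      by_contra hc
      refine h (Matrix.exists_vecMul_eq_zero_iff.1 ⟨c, hc, funext fun j => ?_⟩)
      have := h0 j
      rw [Finset.sum_apply] at this
      exact this
    simp [hc]
  · intro h hdet
    obtain ⟨c, hc, h0⟩ := Matrix.exists_vecMul_eq_zero_iff.2 hdet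
    refine hc (funext fun i => Fintype.linearIndependent_iff.1 hA c (h _
      ((Submodule.mem_span_range_iff_exists_fun K).2 ⟨c, rfl⟩) fun j => ?_) i)
    rw [Finset.sum_apply]
    exact congrFun h0 j

theorem exists_minor (hV : ∀ (j : ℕ) (v : Fin n → K), v ∈ V j ↔ ∀ l : Fin n, j ≤ (l : ℕ) → v l = 0)
    (W : Submodule K (Fin n → K)) (hW : Module.finrank K ↥W = d) (D : ℕ) (i : Fin d)
    (h : Module.finrank K ↥(W ⊓ V D) ≤ (i : ℕ)) :
    ∃ J : Fin d → Fin n, StrictMono J ∧ D ≤ (J i : ℕ) ∧ ∀ x ∈ W, (∀ j, x (J j) = 0) → x = 0 := by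
  classical
  let ev : Fin n → Module.Dual K ↥W := fun l => (LinearMap.proj l).comp W.subtype
  let T : Set (Fin n) := {l | D ≤ (l : ℕ)}
  have h0 : LinearIndepOn K ev (∅ : Set (Fin n)) := linearIndepOn_empty K ev
  let s₀ := h0.extend (Set.empty_subset T)
  have hs₀ : LinearIndepOn K ev s₀ := h0.linearIndepOn_extend _
  let b := hs₀.extend (Set.subset_univ s₀)
  have hb : LinearIndepOn K ev b := hs₀.linearIndepOn_extend _
  have hmem : ∀ (s : Set (Fin n)) (x : W), x ∈ (Submodule.span K (ev '' s)).dualCoannihilator ↔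
      ∀ l ∈ s, x.1 l = 0 := fun s x => by
    rw [Submodule.mem_dualCoannihilator]
    refine ⟨fun h l hl => h _ (Submodule.subset_span ⟨l, hl, rfl⟩), fun h φ hφ => ?_⟩
    induction hφ using Submodule.span_induction with
    | mem φ hφ => obtain ⟨l, hl, rfl⟩ := hφ; exact h l hl
    | zero => rfl
    | add a b _ _ ha hb => rw [LinearMap.add_apply, ha, hb, add_zero]
    | smul c a _ ha => rw [LinearMap.smul_apply, ha, smul_zero]
  have hcard : ∀ (s : Set (Fin n)), LinearIndepOn K ev s →
      s.toFinset.card = Module.finrank K ↥(Submodule.span K (ev '' s)) := fun s hs => by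
    rw [show ev '' s = Set.range fun l : s => ev l by rw [Set.image_eq_range], finrank_span_eq_card hs,
      Set.toFinset_card]
  have hbspan : Submodule.span K (ev '' b) = Submodule.span K (ev '' Set.univ) :=
    hs₀.span_image_extend_eq_span_image _
  have hs₀span : Submodule.span K (ev '' s₀) = Submodule.span K (ev '' T) :=
    h0.span_image_extend_eq_span_image _
  have hbot : (Submodule.span K (ev '' b)).dualCoannihilator = ⊥ := by
    rw [eq_bot_iff]
    intro x hx
    rw [hbspan, hmem] at hx
    exact Subtype.ext (funext fun l => hx l trivial)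
  have hbcard : b.toFinset.card = d := by
    have := Subspace.finrank_add_finrank_dualCoannihilator_eq (Submodule.span K (ev '' b))
    rw [hbot, finrank_bot, add_zero, hW] at this
    rw [hcard b hb, this]
  have hscard : d ≤ s₀.toFinset.card + (i : ℕ) := by
    have e1 := Subspace.finrank_add_finrank_dualCoannihilator_eq (Submodule.span K (ev '' s₀))
    have e2 : (Submodule.span K (ev '' s₀)).dualCoannihilator = (V D).comap W.subtype := by
      ext x
      rw [hs₀span, hmem, Submodule.mem_comap, hV]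
      rfl
    rw [e2, ← Submodule.finrank_map_subtype_eq, Submodule.map_comap_subtype, hW, ← hcard s₀ hs₀] at e1
    omega
  let J : Fin d → Fin n := b.toFinset.orderEmbOfFin hbcard
  have hJ : StrictMono J := (b.toFinset.orderEmbOfFin hbcard).strictMono
  refine ⟨J, hJ, ?_, fun x hx h0' => ?_⟩
  · by_contra hlt
    push Not at hlt
    have hsub : (Finset.univ : Finset (Fin ((i : ℕ) + 1))).image (fun t => J ⟨t.1, by omega⟩) ⊆
        b.toFinset \ s₀.toFinset := by
      intro l hl
      obtain ⟨t, -, rfl⟩ := Finset.mem_image.1 hl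
      refine Finset.mem_sdiff.2 ⟨Finset.orderEmbOfFin_mem _ _ _, fun hs => ?_⟩
      have h1 : D ≤ (J ⟨t.1, by omega⟩ : ℕ) := h0.extend_subset _ (Set.mem_toFinset.1 hs)
      have h2 := Fin.le_def.1 (hJ.monotone (a := ⟨t.1, by omega⟩) (b := i) (Fin.le_def.2 (Nat.lt_succ_iff.1 t.2)))
      omega
    have hinj : Function.Injective fun t : Fin ((i : ℕ) + 1) => J ⟨t.1, by omega⟩ :=
      fun s t h => Fin.ext (Fin.ext_iff.1 (hJ.injective h) :)
    have h3 := Finset.card_le_card hsub
    rw [Finset.card_image_of_injective _ hinj, Finset.card_univ, Fintype.card_fin,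
      Finset.card_sdiff_of_subset (Set.toFinset_mono (hs₀.subset_extend _)), hbcard] at h3
    omega
  · have hx' : (⟨x, hx⟩ : W) ∈ (Submodule.span K (ev '' b)).dualCoannihilator := (hmem b _).2 fun l hl => by
      obtain ⟨j, hj⟩ : l ∈ Set.range J := by
        rw [Finset.range_orderEmbOfFin]
        exact Finset.mem_coe.2 (Set.mem_toFinset.2 hl)
      rw [← hj]
      exact h0' j
    rw [hbot] at hx'
    exact congrArg Subtype.val hx'

theorem schubert_iff_minors (hV : ∀ (j : ℕ) (v : Fin n → K), v ∈ V j ↔ ∀ l : Fin n, j ≤ (l : ℕ) → v l = 0)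
    (A : Matrix (Fin d) (Fin n) K) (hA : LinearIndependent K fun i : Fin d => A i) (D : Fin d → ℕ) :
    (∀ i : Fin d, (i : ℕ) + 1 ≤
        Module.finrank K ↥(Submodule.span K (Set.range fun i : Fin d => A i) ⊓ V (D i))) ↔
      ∀ J : Fin d → Fin n, StrictMono J → (∃ i : Fin d, D i < (J i : ℕ) + 1) → (A.submatrix id J).det = 0 := by
  classical
  set W := Submodule.span K (Set.range fun i : Fin d => A i) with hWdef
  have hW : Module.finrank K ↥W = d := by rw [hWdef, finrank_span_eq_card hA, Fintype.card_fin]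
  constructor
  · rintro h J hJ ⟨i, hi⟩
    by_contra hdet
    have hinj := (det_ne_zero_iff A hA J).1 hdet
    let π : ↥(W ⊓ V (D i)) →ₗ[K] (Fin (i : ℕ) → K) :=
      (LinearMap.funLeft K K fun t : Fin (i : ℕ) => J ⟨t.1, by omega⟩).comp (W ⊓ V (D i)).subtype
    have hπ : Function.Injective π := (injective_iff_map_eq_zero _).2 fun x hx => Subtype.ext
      (hinj x.1 x.2.1 fun j => by
        by_cases hj : (j : ℕ) < (i : ℕ)
        · exact congrFun hx ⟨j, hj⟩
        · refine (hV _ _).1 x.2.2 _ ?_
          have := Fin.le_def.1 (hJ.monotone (Fin.le_def.2 (not_lt.1 hj) : i ≤ j))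
          omega)
    have h1 := LinearMap.finrank_le_finrank_of_injective hπ
    rw [Module.finrank_fin_fun] at h1
    have := h i
    omega
  · intro h i
    by_contra hlt
    obtain ⟨J, hJ, hJD, hinj⟩ := exists_minor hV W hW (D i) i (by omega)
    exact (det_ne_zero_iff A hA J).2 hinj (h J hJ ⟨i, by omega⟩)

end Groth.Agent.SchubLib
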